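import Cfsg.Agent.H21.SN.Tools
import Cfsg.Agent.H334.Star.Own
import Cfsg.Agent.H277.ClsPsl
import Cfsg.Agent.H277.ClsPsp
import Cfsg.Agent.H277.ClsPsu
import Cfsg.Agent.H794.PsuNotAb

/-!
# S3831, task T1: criteria for `NoS3` (helper95)

* `noS3_of_card` : `5616`, `6048`, `25920` do not divide `|H|`;
* `noS3_of_sylow3`, `noS3_of_sylow2` : one Sylow `3`- (`2`-) subgroup of `H` is abelian.
-/

set_option autoImplicit false
set_option linter.unusedSimpArgs false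

namespace Cfsg.Agent.H95.SN

open Cfsg Subgroup Cfsg.Agent.H21.SN Matrix
open Cfsg.Agent.H800.Sp (NotAb notAb_of_pair)
open scoped Pointwise

universe u v

/-! ### orders -/

theorem card_psl {F : Type} [Field F] [Fintype F] (hF : Fintype.card F = 3) :
    Nat.card (Matrix.ProjectiveSpecialLinearGroup (Fin 3) F) = 5616 := by
  have h := Cfsg.Agent.H277.ClsPsl.card_psl hF (n := 3) (by norm_num)
  simp [Finset.prod_range_succ] at h
  exact h

theorem card_psu {F : Type} [Field F] [Fintype F] (hF : Fintype.card F = 9) :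
    Nat.card (PSU 3 F 3) = 6048 := by
  have h := Cfsg.Agent.H277.ClsPsu.card_psu (q := 3) (n := 3) (F := F) (by rw [hF]; norm_num) le_rfl
  have h2 : ¬ Even 1 := by decide
  simp [Finset.prod_range_succ] at h
  exact h

theorem card_psp {F : Type} [Field F] [Fintype F] (hF : Fintype.card F = 3) :
    Nat.card (PSp 2 F) = 25920 := by
  have h := Cfsg.Agent.H277.ClsPsp.card_psp hF (m := 2) (by norm_num)
  simp [Finset.prod_range_succ] at h
  omega

/-- **criterion, orders** -/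
theorem noS3_of_card {H : Type*} [Group H] [Finite H] (h1 : ¬ 5616 ∣ Nat.card H) (h2 : ¬ 6048 ∣ Nat.card H)
    (h3 : ¬ 25920 ∣ Nat.card H) : NoS3 H := by
  intro M L _ f hf hL
  have hd : Nat.card L ∣ Nat.card H := (Subgroup.card_dvd_of_surjective f hf).trans M.card_subgroup_dvd_card
  rcases hL.2.2 with ⟨F, _, _, hF, ⟨e⟩⟩ | ⟨F, _, _, hF, ⟨e⟩⟩ | ⟨F, _, _, hF, ⟨e⟩⟩
  · rw [Nat.card_congr e.toEquiv, card_psl hF] at hd; exact h1 hd
  · rw [Nat.card_congr e.toEquiv, card_psu hF] at hd; exact h2 hd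
  · rw [Nat.card_congr e.toEquiv, card_psp hF] at hd; exact h3 hd

/-! ### Sylow subgroups -/

/-- abelian Sylow subgroups pass to sections -/
theorem false_of_sylow {p : ℕ} [hp : Fact p.Prime] {H : Type*} [Group H] [Finite H]
    (h : ∃ P : Sylow p H, IsMulCommutative (P : Subgroup H)) {M : Subgroup H} {L : Type*} [Group L] (f : M →* L)
    (hf : Function.Surjective f) (hL : NotAb p L) : False := by
  obtain ⟨P, hP⟩ := h
  obtain ⟨Q⟩ : Nonempty (Sylow p M) := inferInstance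
  have : Finite L := Finite.of_surjective f hf
  apply hL (Q.mapSurjective hf)
  obtain ⟨R, hR⟩ := (Q.isPGroup'.map M.subtype).exists_le_sylow
  obtain ⟨g, hg⟩ := MulAction.exists_smul_eq H P R
  have hcom : ∀ a ∈ R, ∀ b ∈ R, a * b = b * a := by
    intro a ha b hb
    rw [← hg] at ha hb
    have h1 : a ∈ MulAut.conj g • (P : Subgroup H) := ha
    have h2 : b ∈ MulAut.conj g • (P : Subgroup H) := hb
    rw [Subgroup.mem_pointwise_smul_iff_inv_smul_mem] at h1 h2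
    have h3 := congrArg Subtype.val (hP.is_comm.comm ⟨_, h1⟩ ⟨_, h2⟩)
    change (MulAut.conj g)⁻¹ • a * (MulAut.conj g)⁻¹ • b = (MulAut.conj g)⁻¹ • b * (MulAut.conj g)⁻¹ • a at h3
    rw [← smul_mul', ← smul_mul'] at h3
    exact smul_left_cancel _ h3
  refine ⟨⟨?_⟩⟩
  rintro ⟨a', ha'⟩ ⟨b', hb'⟩
  obtain ⟨a, ha, h1⟩ : a' ∈ (Q : Subgroup M).map f := ha'
  obtain ⟨b, hb, h2⟩ : b' ∈ (Q : Subgroup M).map f := hb'
  apply Subtype.ext
  change a' * b' = b' * a'
  rw [← h1, ← h2, ← map_mul, ← map_mul]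
  congr 1
  exact Subtype.ext (hcom _ (hR ⟨a, ha, rfl⟩) _ (hR ⟨b, hb, rfl⟩))

theorem NotAb.congr {p : ℕ} [Fact p.Prime] {G : Type u} {H : Type v} [Group G] [Group H] [Finite G] (e : G ≃* H)
    (h : NotAb p H) : NotAb p G := by
  have hfin : Finite H := Finite.of_equiv G e.toEquiv
  obtain ⟨S⟩ : Nonempty (Sylow p H) := inferInstance
  have h1 := h S
  have h2 : ∃ a ∈ S, ∃ b ∈ S, a * b ≠ b * a := by
    by_contra hcon
    push Not at hcon
    exact h1 ⟨⟨fun a b => Subtype.ext (hcon a a.2 b b.2)⟩⟩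
  obtain ⟨a, ha, b, hb, hab⟩ := h2
  refine notAb_of_pair ((S : Subgroup H).map e.symm.toMonoidHom) (S.isPGroup'.map _) ⟨a, ha, rfl⟩ ⟨b, hb, rfl⟩ ?_
  intro hc
  apply hab
  apply e.symm.injective
  rw [map_mul, map_mul]
  exact hc

/-- two `2`-elements, the second inverts the first -/
theorem notAb_two {G : Type u} [Group G] [Finite G] (Z : Subgroup G) [Z.Normal] {x y : G} (hx : x ^ 4 = 1)
    (hy : y ^ 4 = 1) (h : y * x = x ^ 3 * y) (hZ : x ^ 2 ∉ Z) : NotAb 2 (G ⧸ Z) := by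
  have h2 : Fact (Nat.Prime 2) := ⟨Nat.prime_two⟩
  set π := QuotientGroup.mk' Z with hπ
  have hxp : IsPGroup 2 (zpowers (π x)) := by
    rw [IsPGroup.iff_card, Nat.card_zpowers]
    exact ((Nat.dvd_prime_pow Nat.prime_two).1 (orderOf_dvd_of_pow_eq_one (n := 2 ^ 2)
      (by rw [← map_pow, show 2 ^ 2 = 4 from rfl, hx, map_one]))).imp fun _ h => h.2
  have hyp : IsPGroup 2 (zpowers (π y)) := by
    rw [IsPGroup.iff_card, Nat.card_zpowers]
    exact ((Nat.dvd_prime_pow Nat.prime_two).1 (orderOf_dvd_of_pow_eq_one (n := 2 ^ 2)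
      (by rw [← map_pow, show 2 ^ 2 = 4 from rfl, hy, map_one]))).imp fun _ h => h.2
  have hc : π y * π x = π x ^ 3 * π y := by rw [← map_mul, h, map_mul, map_pow]
  have hx4 : π x ^ 4 = 1 := by rw [← map_pow, hx, map_one]
  have hN : zpowers (π y) ≤ normalizer (zpowers (π x) : Set (G ⧸ Z)) := by
    rw [zpowers_le]
    have hmap : (zpowers (π x)).map (MulAut.conj (π y)).toMonoidHom = zpowers (π x) := by
      refine Subgroup.eq_of_le_of_card_ge ?_ (le_of_eq (Subgroup.card_map_of_injective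
        (K := zpowers (π x)) (MulAut.conj (π y)).injective).symm)
      rintro _ ⟨z, ⟨k, rfl⟩, rfl⟩
      have h1 : (MulAut.conj (π y)) (π x ^ k) = (π x ^ 3) ^ k := by
        rw [map_zpow]
        congr 1
        rw [MulAut.conj_apply, hc, mul_inv_cancel_right]
      exact ⟨3 * k, by
        change π x ^ (3 * k : ℤ) = (MulAut.conj (π y)) (π x ^ k)
        rw [h1, _root_.zpow_mul]; norm_cast⟩
    rw [Subgroup.mem_normalizer_iff]
    intro z
    constructor
    · intro hz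
      rw [← hmap]
      exact ⟨z, hz, rfl⟩
    · intro hz
      rw [← hmap] at hz
      obtain ⟨w, hw, hwz⟩ := hz
      have : w = z := (MulAut.conj (π y)).injective hwz
      rwa [← this]
  have hP : IsPGroup 2 (zpowers (π x) ⊔ zpowers (π y) : Subgroup (G ⧸ Z)) := hxp.to_sup_of_normal_left' hyp hN
  refine notAb_of_pair _ hP (mem_sup_left (mem_zpowers _)) (mem_sup_right (mem_zpowers _)) ?_
  intro hcom
  apply hZ
  rw [← QuotientGroup.eq_one_iff]
  change π (x ^ 2) = 1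
  rw [map_pow]
  rw [← hcom] at hc
  have h3 : π x = π x ^ 3 := mul_right_cancel hc
  have h4 : π x * 1 = π x * π x ^ 2 := by rw [mul_one, ← pow_succ']; exact h3
  exact (mul_left_cancel h4).symm

/-! ### the explicit elements -/

section SL

variable {F : Type} [Field F]

def xs (F : Type) [Field F] : Matrix.SpecialLinearGroup (Fin 3) F :=
  ⟨!![0, -1, 0; 1, 0, 0; 0, 0, 1], by simp [Matrix.det_fin_three]⟩

def ys (F : Type) [Field F] : Matrix.SpecialLinearGroup (Fin 3) F :=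
  ⟨!![1, 0, 0; 0, -1, 0; 0, 0, -1], by simp [Matrix.det_fin_three]⟩

def ms (F : Type) [Field F] : Matrix.SpecialLinearGroup (Fin 3) F :=
  ⟨!![0, 0, 1; 1, 0, 0; 0, 1, 0], by simp [Matrix.det_fin_three]⟩

theorem xs_sq : ((xs F ^ 2 : Matrix.SpecialLinearGroup (Fin 3) F) : Matrix (Fin 3) (Fin 3) F) =
    !![-1, 0, 0; 0, -1, 0; 0, 0, 1] := by
  rw [Matrix.SpecialLinearGroup.coe_pow, pow_two]
  ext i j
  fin_cases i <;> fin_cases j <;> simp [xs, Matrix.mul_apply, Fin.sum_univ_three]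

theorem xs_four : xs F ^ 4 = 1 := by
  apply Subtype.ext
  rw [show 4 = 2 * 2 from rfl, pow_mul, Matrix.SpecialLinearGroup.coe_pow, xs_sq, Matrix.SpecialLinearGroup.coe_one, pow_two]
  ext i j
  fin_cases i <;> fin_cases j <;> simp [Matrix.mul_apply, Fin.sum_univ_three]

theorem ys_sq : ys F ^ 2 = 1 := by
  apply Subtype.ext
  rw [Matrix.SpecialLinearGroup.coe_pow, Matrix.SpecialLinearGroup.coe_one, pow_two]
  ext i j
  fin_cases i <;> fin_cases j <;> simp [ys, Matrix.mul_apply, Fin.sum_univ_three]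

theorem ys_four : ys F ^ 4 = 1 := by
  rw [show 4 = 2 * 2 from rfl, pow_mul, ys_sq, one_pow]

theorem ys_xs : ys F * xs F = xs F ^ 3 * ys F := by
  have h3 : xs F ^ 3 = xs F ^ 2 * xs F := pow_succ _ _
  apply Subtype.ext
  rw [h3, Matrix.SpecialLinearGroup.coe_mul, Matrix.SpecialLinearGroup.coe_mul,
    Matrix.SpecialLinearGroup.coe_mul, xs_sq]
  ext i j
  fin_cases i <;> fin_cases j <;> simp [xs, ys, Matrix.mul_apply, Fin.sum_univ_three]

theorem ms_xs (h2 : (2 : F) ≠ 0) : ms F * xs F ^ 2 ≠ xs F ^ 2 * ms F := by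
  intro h
  have h1 := congrArg (fun g : Matrix.SpecialLinearGroup (Fin 3) F => (g : Matrix (Fin 3) (Fin 3) F) 0 2) h
  simp only [Matrix.SpecialLinearGroup.coe_mul, xs_sq] at h1
  simp [ms, Matrix.mul_apply, Fin.sum_univ_three] at h1
  apply h2
  linear_combination h1

end SL

theorem notAb_psl {F : Type} [Field F] [Fintype F] (h2 : (2 : F) ≠ 0) :
    NotAb 2 (Matrix.ProjectiveSpecialLinearGroup (Fin 3) F) := by
  refine notAb_two _ (x := xs F) (y := ys F) xs_four ys_four ys_xs fun h => ?_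
  exact ms_xs h2 (Subgroup.mem_center_iff.1 h (ms F))

theorem notAb_psu {F : Type} [Field F] [Fintype F] (h2 : (2 : F) ≠ 0) : NotAb 2 (PSU 3 F 3) := by
  have hx : xs F ∈ SU 3 F 3 := by
    intro u v
    change hermForm 3 F 3 ((!![0, -1, 0; 1, 0, 0; 0, 0, 1] : Matrix (Fin 3) (Fin 3) F) *ᵥ u) ((!![0, -1, 0; 1, 0, 0; 0, 0, 1] : Matrix (Fin 3) (Fin 3) F) *ᵥ v) = _
    simp [hermForm, Matrix.mulVec, dotProduct, Fin.sum_univ_three]
    try ring
  have hy : ys F ∈ SU 3 F 3 := by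
    intro u v
    change hermForm 3 F 3 ((!![1, 0, 0; 0, -1, 0; 0, 0, -1] : Matrix (Fin 3) (Fin 3) F) *ᵥ u) ((!![1, 0, 0; 0, -1, 0; 0, 0, -1] : Matrix (Fin 3) (Fin 3) F) *ᵥ v) = _
    simp [hermForm, Matrix.mulVec, dotProduct, Fin.sum_univ_three]
    try ring
  have hm : ms F ∈ SU 3 F 3 := by
    intro u v
    change hermForm 3 F 3 ((!![0, 0, 1; 1, 0, 0; 0, 1, 0] : Matrix (Fin 3) (Fin 3) F) *ᵥ u) ((!![0, 0, 1; 1, 0, 0; 0, 1, 0] : Matrix (Fin 3) (Fin 3) F) *ᵥ v) = _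
    simp [hermForm, Matrix.mulVec, dotProduct, Fin.sum_univ_three]
    try ring
  refine notAb_two _ (x := (⟨xs F, hx⟩ : SU 3 F 3)) (y := ⟨ys F, hy⟩) (Subtype.ext xs_four) (Subtype.ext ys_four)
    (Subtype.ext ys_xs) fun h => ?_
  exact ms_xs h2 (congrArg Subtype.val (Subgroup.mem_center_iff.1 h ⟨ms F, hm⟩))

section Sp

variable {F : Type} [Field F]

theorem mem_sp {A B C D : Matrix (Fin 2) (Fin 2) F} (h1 : A * Bᵀ = B * Aᵀ) (h2 : C * Dᵀ = D * Cᵀ)
    (h3 : A * Dᵀ - B * Cᵀ = 1) : Matrix.fromBlocks A B C D ∈ Matrix.symplecticGroup (Fin 2) F := by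
  rw [SymplecticGroup.mem_iff, Matrix.J, Matrix.fromBlocks_transpose, Matrix.fromBlocks_multiply,
    Matrix.fromBlocks_multiply]
  have h4 : D * Aᵀ - C * Bᵀ = 1 := by
    have := congrArg Matrix.transpose h3
    simpa [Matrix.transpose_sub, Matrix.transpose_mul] using this
  congr 1
  · simp only [Matrix.mul_zero, Matrix.mul_one, zero_add, Matrix.mul_neg, add_zero, Matrix.neg_mul]
    rw [h1]; abel
  · simp only [Matrix.mul_zero, Matrix.mul_one, zero_add, Matrix.mul_neg, add_zero, Matrix.neg_mul]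
    rw [← h3]; abel
  · simp only [Matrix.mul_zero, Matrix.mul_one, zero_add, Matrix.mul_neg, add_zero, Matrix.neg_mul]
    rw [← h4]; abel
  · simp only [Matrix.mul_zero, Matrix.mul_one, zero_add, Matrix.mul_neg, add_zero, Matrix.neg_mul]
    rw [h2]; abel

def xp (F : Type) [Field F] : Matrix.symplecticGroup (Fin 2) F :=
  ⟨Matrix.fromBlocks !![0, 0; 0, 1] !![-1, 0; 0, 0] !![1, 0; 0, 0] !![0, 0; 0, 1], mem_sp
    (by ext i j; fin_cases i <;> fin_cases j <;> simp [Matrix.vecMul, dotProduct, Fin.sum_univ_two])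
    (by ext i j; fin_cases i <;> fin_cases j <;> simp [Matrix.vecMul, dotProduct, Fin.sum_univ_two])
    (by ext i j; fin_cases i <;> fin_cases j <;> simp [Matrix.vecMul, dotProduct, Fin.sum_univ_two])⟩

def yp (F : Type) [Field F] (h3 : (3 : F) = 0) : Matrix.symplecticGroup (Fin 2) F :=
  ⟨Matrix.fromBlocks !![1, 0; 0, 1] !![1, 0; 0, 0] !![1, 0; 0, 0] !![-1, 0; 0, 1], mem_sp
    (by ext i j; fin_cases i <;> fin_cases j <;> simp [Matrix.vecMul, dotProduct, Fin.sum_univ_two])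
    (by ext i j; fin_cases i <;> fin_cases j <;> simp [Matrix.vecMul, dotProduct, Fin.sum_univ_two])
    (by
      have h4 : -(1 : F) - 1 = 1 := by linear_combination -h3
      ext i j; fin_cases i <;> fin_cases j <;> simp [Matrix.vecMul, dotProduct, Fin.sum_univ_two, h4])⟩

def mp (F : Type) [Field F] : Matrix.symplecticGroup (Fin 2) F :=
  ⟨Matrix.fromBlocks !![0, 1; 1, 0] 0 0 !![0, 1; 1, 0], mem_sp
    (by ext i j; fin_cases i <;> fin_cases j <;> simp [Matrix.vecMul, dotProduct, Fin.sum_univ_two])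
    (by ext i j; fin_cases i <;> fin_cases j <;> simp [Matrix.vecMul, dotProduct, Fin.sum_univ_two])
    (by ext i j; fin_cases i <;> fin_cases j <;> simp [Matrix.vecMul, dotProduct, Fin.sum_univ_two])⟩

theorem xp_sq : ((xp F ^ 2 : Matrix.symplecticGroup (Fin 2) F) : Matrix (Fin 2 ⊕ Fin 2) (Fin 2 ⊕ Fin 2) F) =
    Matrix.fromBlocks !![-1, 0; 0, 1] 0 0 !![-1, 0; 0, 1] := by
  rw [pow_two]
  change (xp F : Matrix (Fin 2 ⊕ Fin 2) (Fin 2 ⊕ Fin 2) F) * (xp F : Matrix (Fin 2 ⊕ Fin 2) (Fin 2 ⊕ Fin 2) F) = _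
  simp only [xp, Matrix.fromBlocks_multiply]
  congr 1 <;> (ext i j; fin_cases i <;> fin_cases j <;> simp [Matrix.vecMul, dotProduct, Fin.sum_univ_two])

theorem xp_four : xp F ^ 4 = 1 := by
  apply Subtype.ext
  have h : xp F ^ 4 = xp F ^ 2 * xp F ^ 2 := by rw [← pow_add]
  rw [h]
  change ((xp F ^ 2 : Matrix.symplecticGroup (Fin 2) F) : Matrix (Fin 2 ⊕ Fin 2) (Fin 2 ⊕ Fin 2) F) *
    ((xp F ^ 2 : Matrix.symplecticGroup (Fin 2) F) : Matrix (Fin 2 ⊕ Fin 2) (Fin 2 ⊕ Fin 2) F) = 1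
  rw [xp_sq, Matrix.fromBlocks_multiply, ← Matrix.fromBlocks_one]
  congr 1 <;> (ext i j; fin_cases i <;> fin_cases j <;> simp [Matrix.vecMul, dotProduct, Fin.sum_univ_two])

theorem yp_sq (h3 : (3 : F) = 0) : ((yp F h3 ^ 2 : Matrix.symplecticGroup (Fin 2) F) :
    Matrix (Fin 2 ⊕ Fin 2) (Fin 2 ⊕ Fin 2) F) = Matrix.fromBlocks !![-1, 0; 0, 1] 0 0 !![-1, 0; 0, 1] := by
  rw [pow_two]
  change (yp F h3 : Matrix (Fin 2 ⊕ Fin 2) (Fin 2 ⊕ Fin 2) F) * (yp F h3 : Matrix (Fin 2 ⊕ Fin 2) (Fin 2 ⊕ Fin 2) F) = _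
  simp only [yp, Matrix.fromBlocks_multiply]
  congr 1 <;> (ext i j; fin_cases i <;> fin_cases j <;> simp [Matrix.vecMul, dotProduct, Fin.sum_univ_two] <;> linear_combination h3)

theorem yp_four (h3 : (3 : F) = 0) : yp F h3 ^ 4 = 1 := by
  apply Subtype.ext
  have h : yp F h3 ^ 4 = yp F h3 ^ 2 * yp F h3 ^ 2 := by rw [← pow_add]
  rw [h]
  change ((yp F h3 ^ 2 : Matrix.symplecticGroup (Fin 2) F) : Matrix (Fin 2 ⊕ Fin 2) (Fin 2 ⊕ Fin 2) F) *
    ((yp F h3 ^ 2 : Matrix.symplecticGroup (Fin 2) F) : Matrix (Fin 2 ⊕ Fin 2) (Fin 2 ⊕ Fin 2) F) = 1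
  rw [yp_sq, Matrix.fromBlocks_multiply, ← Matrix.fromBlocks_one]
  congr 1 <;> (ext i j; fin_cases i <;> fin_cases j <;> simp [Matrix.vecMul, dotProduct, Fin.sum_univ_two])

theorem yp_xp (h3 : (3 : F) = 0) : yp F h3 * xp F = xp F ^ 3 * yp F h3 := by
  have h : xp F ^ 3 = xp F ^ 2 * xp F := pow_succ _ _
  apply Subtype.ext
  rw [h]
  change (yp F h3 : Matrix (Fin 2 ⊕ Fin 2) (Fin 2 ⊕ Fin 2) F) * (xp F : Matrix (Fin 2 ⊕ Fin 2) (Fin 2 ⊕ Fin 2) F) =
    ((xp F ^ 2 : Matrix.symplecticGroup (Fin 2) F) : Matrix (Fin 2 ⊕ Fin 2) (Fin 2 ⊕ Fin 2) F) *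
    (xp F : Matrix (Fin 2 ⊕ Fin 2) (Fin 2 ⊕ Fin 2) F) * (yp F h3 : Matrix (Fin 2 ⊕ Fin 2) (Fin 2 ⊕ Fin 2) F)
  rw [xp_sq]
  simp only [xp, yp, Matrix.fromBlocks_multiply]
  congr 1 <;> (ext i j; fin_cases i <;> fin_cases j <;> simp [Matrix.vecMul, dotProduct, Fin.sum_univ_two])

theorem mp_xp (h2 : (2 : F) ≠ 0) : mp F * xp F ^ 2 ≠ xp F ^ 2 * mp F := by
  intro h
  have h1 := congrArg (fun g : Matrix.symplecticGroup (Fin 2) F =>
    (g : Matrix (Fin 2 ⊕ Fin 2) (Fin 2 ⊕ Fin 2) F) (Sum.inl 0) (Sum.inl 1)) h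
  change ((mp F : Matrix (Fin 2 ⊕ Fin 2) (Fin 2 ⊕ Fin 2) F) *
    ((xp F ^ 2 : Matrix.symplecticGroup (Fin 2) F) : Matrix (Fin 2 ⊕ Fin 2) (Fin 2 ⊕ Fin 2) F)) (Sum.inl 0) (Sum.inl 1) =
    (((xp F ^ 2 : Matrix.symplecticGroup (Fin 2) F) : Matrix (Fin 2 ⊕ Fin 2) (Fin 2 ⊕ Fin 2) F) *
      (mp F : Matrix (Fin 2 ⊕ Fin 2) (Fin 2 ⊕ Fin 2) F)) (Sum.inl 0) (Sum.inl 1) at h1
  rw [xp_sq] at h1
  simp only [mp, Matrix.fromBlocks_multiply, Matrix.fromBlocks_apply₁₁] at h1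
  simp [Matrix.vecMul, dotProduct, Fin.sum_univ_two] at h1
  apply h2
  linear_combination h1

end Sp

theorem notAb_psp {F : Type} [Field F] [Fintype F] (h3 : (3 : F) = 0) : NotAb 2 (PSp 2 F) := by
  have h2 : (2 : F) ≠ 0 := by
    intro h
    have : (1 : F) = 0 := by linear_combination h3 - h
    exact one_ne_zero this
  refine notAb_two _ (x := xp F) (y := yp F h3) xp_four (yp_four h3) (yp_xp h3) fun h => ?_
  exact mp_xp h2 (Subgroup.mem_center_iff.1 h (mp F))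

/-! ### the criteria -/

theorem charP_three {F : Type} [Field F] [Fintype F] (k : ℕ) (hF : Fintype.card F = 3 ^ k) : CharP F 3 := by
  have : Fact (Nat.Prime 3) := ⟨Nat.prime_three⟩
  exact charP_of_card_eq_prime_pow hF

/-- the three groups have nonabelian Sylow `2`-subgroups -/
theorem notAb_two_of_isS3 {L : Type*} [Group L] [Finite L] (h : IsS3 L) : NotAb 2 L := by
  have h2 : Fact (Nat.Prime 2) := ⟨Nat.prime_two⟩
  have key : ∀ (F : Type) [Field F] [CharP F 3], (3 : F) = 0 ∧ (2 : F) ≠ 0 := by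
    intro F _ _
    have h3 : (3 : F) = 0 := by exact_mod_cast CharP.cast_eq_zero F 3
    refine ⟨h3, fun h => ?_⟩
    have : (1 : F) = 0 := by linear_combination h3 - h
    exact one_ne_zero this
  rcases h.2.2 with ⟨F, _, _, hF, ⟨e⟩⟩ | ⟨F, _, _, hF, ⟨e⟩⟩ | ⟨F, _, _, hF, ⟨e⟩⟩
  · have := charP_three 1 (F := F) (by rw [hF]; norm_num)
    exact NotAb.congr e (notAb_psl (key F).2)
  · have := charP_three 2 (F := F) (by rw [hF]; norm_num)
    exact NotAb.congr e (notAb_psu (key F).2)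
  · have := charP_three 1 (F := F) (by rw [hF]; norm_num)
    exact NotAb.congr e (notAb_psp (key F).1)

/-- the three groups have nonabelian Sylow `3`-subgroups -/
theorem notAb_three_of_isS3 {L : Type*} [Group L] [Finite L] (h : IsS3 L) : NotAb 3 L := by
  have h3 : Fact (Nat.Prime 3) := ⟨Nat.prime_three⟩
  have hs := h.1
  have hc : ∃ a b : L, a * b ≠ b * a := by
    by_contra hcon
    push Not at hcon
    exact h.2.1 ⟨⟨hcon⟩⟩
  have key : (∃ S : Sylow 3 L, ¬ IsMulCommutative (S : Subgroup L)) → NotAb 3 L := by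
    rintro ⟨S, hS⟩
    have h2 : ∃ a ∈ S, ∃ b ∈ S, a * b ≠ b * a := by
      by_contra hcon
      push Not at hcon
      exact hS ⟨⟨fun a b => Subtype.ext (hcon a a.2 b b.2)⟩⟩
    obtain ⟨a, ha, b, hb, hab⟩ := h2
    exact notAb_of_pair (S : Subgroup L) S.isPGroup' ha hb hab
  rcases h.2.2 with ⟨F, _, _, hF, ⟨e⟩⟩ | ⟨F, _, _, hF, ⟨e⟩⟩ | ⟨F, _, _, hF, ⟨e⟩⟩
  · have := charP_three 1 (F := F) (by rw [hF]; norm_num)
    have h1 : Cfsg.Agent.H794.DefRank.HasRk2 3 (Matrix.ProjectiveSpecialLinearGroup (Fin 3) F) :=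
      Cfsg.Agent.H794.DefRank.rk2_PSL 2 le_rfl
    have : Finite (Matrix.ProjectiveSpecialLinearGroup (Fin 3) F) := Finite.of_equiv L e.toEquiv
    exact key (Cfsg.Agent.H334.Star.notAb_of_rk2 hc (h1.of_equiv e.symm))
  · have := charP_three 2 (F := F) (by rw [hF]; norm_num)
    exact NotAb.congr e (Cfsg.Agent.H794.PsuNotAb.notAb (by rw [hF]; norm_num) le_rfl)
  · have := charP_three 1 (F := F) (by rw [hF]; norm_num)
    have h1 : Cfsg.Agent.H794.DefRank.HasRk2 3 (PSp 2 F) := Cfsg.Agent.H794.DefRank.rk2_PSp le_rfl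
    have : Finite (PSp 2 F) := Finite.of_equiv L e.toEquiv
    exact key (Cfsg.Agent.H334.Star.notAb_of_rk2 hc (h1.of_equiv e.symm))

/-- **criterion, Sylow `3`-subgroup** -/
theorem noS3_of_sylow3 {H : Type*} [Group H] [Finite H] (h : ∃ P : Sylow 3 H, IsMulCommutative (P : Subgroup H)) :
    NoS3 H := by
  have h3 : Fact (Nat.Prime 3) := ⟨Nat.prime_three⟩
  intro M L _ f hf hL
  have : Finite L := Finite.of_surjective f hf
  exact false_of_sylow h f hf (notAb_three_of_isS3 hL)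

/-- **criterion, Sylow `2`-subgroup** -/
theorem noS3_of_sylow2 {H : Type*} [Group H] [Finite H] (h : ∃ P : Sylow 2 H, IsMulCommutative (P : Subgroup H)) :
    NoS3 H := by
  have h3 : Fact (Nat.Prime 2) := ⟨Nat.prime_two⟩
  intro M L _ f hf hL
  have : Finite L := Finite.of_surjective f hf
  exact false_of_sylow h f hf (notAb_two_of_isS3 hL)

end Cfsg.Agent.H95.SN
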